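import Mathlib
import Groth.Agent.RelNoether.Twist
import Groth.Agent.Unibranch.Noether

/-!
# Achinger's lemma

An algebra over a field of characteristic `p` which is étale over affine `n`-space is finite étale
over affine `n`-space.
-/

noncomputable section

open MvPolynomial
open scoped TensorProduct

universe u

namespace Groth.Agent.EtaleCharP

variable {k C : Type u} [Field k] [CommRing C] [Algebra k C] {n : ℕ}

/-- The differentials of `a` form a basis of `Ω[C⁄k]`. -/
def DiffBasis (a : Fin n → C) : Prop :=
  Function.Bijective (Fintype.linearCombination C fun i => KaehlerDifferential.D k C (a i))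

theorem mapBaseChange_eq [Algebra (MvPolynomial (Fin n) k) C]
    [IsScalarTower k (MvPolynomial (Fin n) k) C] :
    KaehlerDifferential.mapBaseChange k (MvPolynomial (Fin n) k) C =
      (Fintype.linearCombination C fun i =>
        KaehlerDifferential.D k C (algebraMap (MvPolynomial (Fin n) k) C (X i))).comp
        ((KaehlerDifferential.mvPolynomialBasis k (Fin n)).baseChange C).equivFun.toLinearMap := by
  refine ((KaehlerDifferential.mvPolynomialBasis k (Fin n)).baseChange C).ext fun i => ?_
  classical
  rw [LinearMap.comp_apply, LinearEquiv.coe_toLinearMap, Fintype.linearCombination_apply]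
  simp [Module.Basis.equivFun_self, Module.Basis.baseChange_apply,
    KaehlerDifferential.mapBaseChange_tmul, KaehlerDifferential.mvPolynomialBasis_apply,
    KaehlerDifferential.map_D, Finsupp.single_apply, ite_smul]

theorem diffBasis_of_etale [Algebra (MvPolynomial (Fin n) k) C]
    [IsScalarTower k (MvPolynomial (Fin n) k) C] [Algebra.Etale (MvPolynomial (Fin n) k) C] :
    DiffBasis (k := k) fun i => algebraMap (MvPolynomial (Fin n) k) C (X i) := by
  have h : Function.Bijective (KaehlerDifferential.mapBaseChange k (MvPolynomial (Fin n) k) C) :=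
    (KaehlerDifferential.tensorKaehlerEquivOfFormallyEtale k (MvPolynomial (Fin n) k) C).bijective
  rw [mapBaseChange_eq] at h
  exact (Function.Bijective.of_comp_iff _ (LinearEquiv.bijective _)).1 h

theorem etale_of_diffBasis [Algebra.Smooth k C] [Algebra (MvPolynomial (Fin n) k) C]
    [IsScalarTower k (MvPolynomial (Fin n) k) C]
    (h : DiffBasis (k := k) fun i => algebraMap (MvPolynomial (Fin n) k) C (X i)) :
    Algebra.Etale (MvPolynomial (Fin n) k) C := by
  have hb : Function.Bijective (KaehlerDifferential.mapBaseChange k (MvPolynomial (Fin n) k) C) := by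
    rw [mapBaseChange_eq]
    exact h.comp (LinearEquiv.bijective _)
  haveI : Subsingleton (Ω[C⁄MvPolynomial (Fin n) k]) := by
    refine subsingleton_of_forall_eq 0 fun w => ?_
    obtain ⟨w, rfl⟩ := KaehlerDifferential.map_surjective k (MvPolynomial (Fin n) k) C w
    exact (KaehlerDifferential.exact_mapBaseChange_map k (MvPolynomial (Fin n) k) C w).2 (hb.2 w)
  haveI : Subsingleton (Algebra.H1Cotangent (MvPolynomial (Fin n) k) C) := by
    refine subsingleton_of_forall_eq 0 fun x => ?_
    have h0 : Algebra.H1Cotangent.δ k (MvPolynomial (Fin n) k) C x = 0 :=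
      hb.1 (by rw [(Algebra.H1Cotangent.exact_δ_mapBaseChange k _ C).apply_apply_eq_zero x, map_zero])
    obtain ⟨y, rfl⟩ := (Algebra.H1Cotangent.exact_map_δ k (MvPolynomial (Fin n) k) C x).1 h0
    rw [Subsingleton.elim y 0, map_zero]
  haveI : Algebra.FinitePresentation (MvPolynomial (Fin n) k) C :=
    Algebra.FinitePresentation.of_restrict_scalars_finitePresentation k _ C
  haveI : Algebra.FormallyEtale (MvPolynomial (Fin n) k) C := ⟨inferInstance, inferInstance⟩
  exact ⟨inferInstance, inferInstance⟩

theorem etale_iff_diffBasis [Algebra.Smooth k C] (a : Fin n → C) :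
    (aeval a : MvPolynomial (Fin n) k →ₐ[k] C).toRingHom.Etale ↔ DiffBasis (k := k) a := by
  letI : Algebra (MvPolynomial (Fin n) k) C := (aeval a : MvPolynomial (Fin n) k →ₐ[k] C).toRingHom.toAlgebra
  haveI : IsScalarTower k (MvPolynomial (Fin n) k) C :=
    IsScalarTower.of_algebraMap_eq fun x => ((aeval a).commutes x).symm
  have ha : (fun i => algebraMap (MvPolynomial (Fin n) k) C (X i)) = a :=
    funext fun i => aeval_X a i
  refine ⟨fun h => ?_, fun h => ?_⟩
  · haveI : Algebra.Etale (MvPolynomial (Fin n) k) C := h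
    have := diffBasis_of_etale (k := k) (C := C) (n := n)
    rwa [ha] at this
  · exact etale_of_diffBasis (by rwa [ha])

theorem ringKrullDim_le_of_etale [Algebra (MvPolynomial (Fin n) k) C]
    [Algebra.Etale (MvPolynomial (Fin n) k) C] : ringKrullDim C ≤ n := by
  have h : StrictMono (PrimeSpectrum.comap (algebraMap (MvPolynomial (Fin n) k) C)) := by
    intro P Q hlt
    refine lt_of_le_of_ne (Ideal.comap_mono hlt.le) fun he => hlt.ne (PrimeSpectrum.ext ?_)
    exact Algebra.QuasiFinite.eq_of_le_of_under_eq (R := MvPolynomial (Fin n) k) _ _ hlt.le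
      (congrArg PrimeSpectrum.asIdeal he)
  refine (Order.krullDim_le_of_strictMono _ h).trans ?_
  change ringKrullDim (MvPolynomial (Fin n) k) ≤ _
  rw [MvPolynomial.ringKrullDim_of_isNoetherianRing, ringKrullDim_eq_zero_of_field, zero_add]
  simp

/-- One elimination step: `z` is the element to eliminate. -/
theorem exists_finite_twist {p M : ℕ} (hp : 1 < p) (g : Fin (M + 1) → C)
    (hg : (aeval g : MvPolynomial (Fin (M + 1)) k →ₐ[k] C).toRingHom.Finite)
    (f : MvPolynomial (Fin (M + 1)) k) (hf : f ≠ 0) (hfg : aeval g f = 0) :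
    ∃ r : Fin M → ℕ, (∀ i, p ∣ r i) ∧
      (aeval (fun i => g i.succ - g 0 ^ r i) : MvPolynomial (Fin M) k →ₐ[k] C).toRingHom.Finite := by
  set N := p * (f.totalDegree + 2) with hN
  have hfN : f.totalDegree < N := by nlinarith
  have hN1 : 1 < N := by nlinarith
  refine ⟨fun i => N ^ (i.succ : ℕ), fun i => ?_, ?_⟩
  · exact dvd_pow (Dvd.intro _ rfl) (by simp)
  set w : Fin M → C := fun i => g i.succ - g 0 ^ N ^ (i.succ : ℕ) with hw
  set g' : Fin (M + 1) → C := Fin.cons (g 0) w with hg'
  have hcomp : (aeval g' : MvPolynomial (Fin (M + 1)) k →ₐ[k] C).comp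
      (RelNoether.T (k := k) N).toAlgHom = aeval g := by
    apply algHom_ext
    intro i
    induction i using Fin.cases <;> simp [hg', hw, Fin.succ_ne_zero]
  have hroot : aeval g' (RelNoether.T N f) = 0 := by
    rw [← hfg, ← hcomp]; rfl
  have hg'fin : (aeval g' : MvPolynomial (Fin (M + 1)) k →ₐ[k] C).toRingHom.Finite := by
    refine RingHom.Finite.of_comp_finite (f := (RelNoether.T (k := k) N).toAlgHom.toRingHom) ?_
    change ((aeval g').comp (RelNoether.T (k := k) N).toAlgHom).toRingHom.Finite
    rw [hcomp]
    exact hg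
  set φ : MvPolynomial (Fin M) k →+* C := (aeval w : MvPolynomial (Fin M) k →ₐ[k] C).toRingHom
  have hdec : (Polynomial.eval₂RingHom φ (g 0)).comp
      (finSuccEquiv k M).toAlgHom.toRingHom =
      (aeval g' : MvPolynomial (Fin (M + 1)) k →ₐ[k] C).toRingHom := by
    apply MvPolynomial.ringHom_ext
    · intro a
      simp [φ, finSuccEquiv_apply]
    · intro i
      induction i using Fin.cases <;>
        simp [φ, hg', finSuccEquiv_X_zero, finSuccEquiv_X_succ]
  have hu := RelNoether.T_leadingcoeff_isUnit f N hfN hN1 hf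
  set F := finSuccEquiv k M (RelNoether.T N f) with hF
  have hF0 : F.eval₂ φ (g 0) = 0 := (RingHom.congr_fun hdec _).trans hroot
  have hmon := Polynomial.monic_of_isUnit_leadingCoeff_inv_smul hu
  set G := hu.unit⁻¹ • F with hG
  have hG0 : G.eval₂ φ (g 0) = 0 := by
    rw [hG, Units.smul_def, Polynomial.smul_eq_C_mul, Polynomial.eval₂_mul, hF0, mul_zero]
  haveI := hmon.finite_adjoinRoot
  have h1 : (AdjoinRoot.lift φ (g 0) hG0).comp (AdjoinRoot.of G) = φ :=
    RingHom.ext fun a => AdjoinRoot.lift_of hG0
  change φ.Finite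
  rw [← h1]
  refine RingHom.Finite.comp ?_ ?_
  · refine RingHom.Finite.of_comp_finite (f := (AdjoinRoot.mk G).comp
      (finSuccEquiv k M).toAlgHom.toRingHom) ?_
    rw [← RingHom.comp_assoc, show (AdjoinRoot.lift φ (g 0) hG0).comp (AdjoinRoot.mk G) =
      Polynomial.eval₂RingHom φ (g 0) from RingHom.ext fun q => AdjoinRoot.lift_mk hG0 q, hdec]
    exact hg'fin
  · exact RingHom.finite_algebraMap.2 inferInstance

/-- Achinger's lemma. -/
theorem exists_finite_etale (p : ℕ) [Fact p.Prime] [CharP k p] [Algebra.Smooth k C]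
    (a : Fin n → C) (ha : DiffBasis (k := k) a) :
    ∃ φ : MvPolynomial (Fin n) k →ₐ[k] C, φ.toRingHom.Finite ∧ φ.toRingHom.Etale := by
  suffices key : ∀ m : ℕ, ∀ (a : Fin n → C) (y : Fin m → C), DiffBasis (k := k) a →
      (aeval (Fin.append a y) : MvPolynomial (Fin (n + m)) k →ₐ[k] C).toRingHom.Finite →
      ∃ φ : MvPolynomial (Fin n) k →ₐ[k] C, φ.toRingHom.Finite ∧ φ.toRingHom.Etale by
    obtain ⟨m, f, hf⟩ := Algebra.FiniteType.iff_quotient_mvPolynomial''.1
      (inferInstance : Algebra.FiniteType k C)
    refine key m a (fun i => f (X i)) ha (RingHom.Finite.of_surjective _ fun x => ?_)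
    obtain ⟨q, rfl⟩ := hf x
    refine ⟨rename (Fin.natAdd n) q, ?_⟩
    change aeval _ (rename _ q) = _
    rw [aeval_rename]
    exact congrFun (congrArg DFunLike.coe
      (MvPolynomial.algHom_ext (g := f) fun i => by simp)) q
  intro m
  induction m with
  | zero =>
    intro a y ha hy
    refine ⟨aeval a, ?_, (etale_iff_diffBasis a).2 ha⟩
    have : Fin.append a y = a := funext fun i => Fin.append_left a y i
    rw [this] at hy
    exact hy
  | succ m ih =>
    intro a y ha hy
    let g : Fin (n + m + 1) → C := Fin.cons (y 0) (Fin.append a (Fin.tail y))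
    let σ : Fin (n + (m + 1)) → Fin (n + m + 1) := Fin.addCases (fun i => (Fin.castAdd m i).succ)
      (Fin.cases 0 fun j => (Fin.natAdd n j).succ)
    have hσ : g ∘ σ = Fin.append a y := by
      funext i
      induction i using Fin.addCases with
      | left i => simp [g, σ]
      | right i => induction i using Fin.cases <;> simp [g, σ, Fin.tail]
    have hg : (aeval g : MvPolynomial (Fin (n + m + 1)) k →ₐ[k] C).toRingHom.Finite := by
      refine RingHom.Finite.of_comp_finite
        (f := (rename σ : _ →ₐ[k] MvPolynomial (Fin (n + m + 1)) k).toRingHom) ?_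
      change ((aeval g).comp (rename σ : MvPolynomial (Fin (n + (m + 1))) k →ₐ[k] _)).toRingHom.Finite
      have : (aeval g).comp (rename σ) = (aeval (Fin.append a y) :
          MvPolynomial (Fin (n + (m + 1))) k →ₐ[k] C) := by
        apply algHom_ext
        intro i
        simp [← hσ]
      rw [this]
      exact hy
    obtain ⟨f, hfg, hf⟩ : ∃ f, aeval g f = 0 ∧ f ≠ (0 : MvPolynomial (Fin (n + m + 1)) k) := by
      by_contra hne
      push Not at hne
      have h1 : ringKrullDim C = ((n + m + 1 : ℕ) : WithBot ℕ∞) :=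
        Unibranch.ringKrullDim_eq_of_finite_inj (aeval g) ((injective_iff_map_eq_zero _).2 hne) hg
      have h2 : ringKrullDim C ≤ (n : WithBot ℕ∞) := by
        letI : Algebra (MvPolynomial (Fin n) k) C := (aeval a).toRingHom.toAlgebra
        haveI : Algebra.Etale (MvPolynomial (Fin n) k) C := (etale_iff_diffBasis a).2 ha
        exact ringKrullDim_le_of_etale (k := k)
      rw [h1] at h2
      have : n + m + 1 ≤ n := by exact_mod_cast h2
      omega
    obtain ⟨r, hr, hfin⟩ := exists_finite_twist (Fact.out : p.Prime).one_lt g hg f hf hfg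
    let a' : Fin n → C := fun i => a i - y 0 ^ r (Fin.castAdd m i)
    let y' : Fin m → C := fun j => y j.succ - y 0 ^ r (Fin.natAdd n j)
    refine ih a' y' ?_ ?_
    · have hp0 : (p : C) = 0 := by
        rw [← map_natCast (algebraMap k C), CharP.cast_eq_zero, map_zero]
      have hd : (fun i => KaehlerDifferential.D k C (a' i)) =
          fun i => KaehlerDifferential.D k C (a i) := by
        funext i
        obtain ⟨c, hc⟩ := hr (Fin.castAdd m i)
        simp only [a', hc, map_sub, Derivation.leibniz_pow]
        rw [← Nat.cast_smul_eq_nsmul C (p * c), Nat.cast_mul, hp0, zero_mul, zero_smul, sub_zero]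
      unfold DiffBasis
      rw [hd]
      exact ha
    · have he : Fin.append a' y' = fun i => g i.succ - g 0 ^ r i := by
        funext i
        induction i using Fin.addCases <;> simp [a', y', g, Fin.tail]
      rw [he]
      exact hfin

end Groth.Agent.EtaleCharP
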