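import Mathlib

/-!
# Lifting finite étale algebras along quotients in characteristic `p`

Finite étale algebras over a quotient `A` of an `F_p`-algebra `R` are quotients of base changes of
algebras `R[X_i]/(X_i^p - ∑ M_ij X_j)` with `M` invertible.
-/

noncomputable section

open MvPolynomial Matrix
open scoped TensorProduct

universe u

namespace Groth.Agent.EtaleCharP

/-- In a finite formally unramified algebra, the `p`-th powers span. -/
theorem span_pow_eq_top (p : ℕ) [Fact p.Prime] (A B : Type*) [CommRing A] [CommRing B]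
    [Algebra A B] [Module.Finite A B] [Algebra.FormallyUnramified A B] (hp : (p : B) = 0) :
    Submodule.span A (Set.range fun x : B => x ^ p) = ⊤ := by
  set S : Subalgebra A B := Algebra.adjoin A (Set.range fun x : B => x ^ p) with hS
  suffices h : S = ⊤ by
    have h1 : Subalgebra.toSubmodule S = Submodule.span A (Set.range fun x : B => x ^ p) := by
      rw [hS, Algebra.adjoin_eq_span]
      congr 1
      have : (Set.range fun x : B => x ^ p) = ↑(MonoidHom.mrange (powMonoidHom p : B →* B)) := rfl
      rw [this, Submonoid.closure_eq]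
    rw [← h1, h, Algebra.top_toSubmodule]
  haveI : Module.Finite S B := Module.Finite.of_restrictScalars_finite A S B
  haveI : Algebra.FormallyUnramified S B := Algebra.FormallyUnramified.of_restrictScalars A S B
  suffices hepi : Algebra.IsEpi S B by
    refine eq_top_iff.2 fun x _ => ?_
    obtain ⟨y, rfl⟩ := Algebra.isEpi_iff_surjective_algebraMap_of_finite.1 hepi x
    exact y.2
  rw [Algebra.isEpi_iff_forall_one_tmul_eq]
  have hpow : ∀ b : B, ((1 : B) ⊗ₜ[S] b - b ⊗ₜ[S] (1 : B)) ^ p = 0 := by
    intro b
    rcases subsingleton_or_nontrivial (B ⊗[S] B) with h | h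
    · exact Subsingleton.elim _ _
    · haveI : CharP (B ⊗[S] B) p := (CharP.charP_iff_prime_eq_zero (Fact.out : p.Prime)).2 (by
        rw [← map_natCast (Algebra.TensorProduct.includeLeft : B →ₐ[S] B ⊗[S] B) p, hp, map_zero])
      rw [sub_pow_char, Algebra.TensorProduct.tmul_pow, Algebra.TensorProduct.tmul_pow, one_pow,
        sub_eq_zero]
      let c : S := ⟨b ^ p, Algebra.subset_adjoin ⟨b, rfl⟩⟩
      rw [show b ^ p = c • (1 : B) from (mul_one _).symm]
      exact (TensorProduct.smul_tmul c 1 1).symm
  obtain ⟨e, he, hK⟩ := (Ideal.isIdempotentElem_iff_of_fg _ (KaehlerDifferential.ideal_fg S B)).1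
    ((Ideal.cotangent_subsingleton_iff _).1
      ((Algebra.formallyUnramified_iff S B).1 inferInstance))
  have he0 : e = 0 := by
    refine he.eq_zero_of_isNilpotent ?_
    have : KaehlerDifferential.ideal S B ≤ nilradical (B ⊗[S] B) := by
      rw [← KaehlerDifferential.span_range_eq_ideal, Ideal.span_le]
      rintro _ ⟨b, rfl⟩
      exact ⟨p, hpow b⟩
    exact this (by rw [hK]; exact Submodule.mem_span_singleton_self e)
  intro b
  have : (1 : B) ⊗ₜ[S] b - b ⊗ₜ[S] (1 : B) ∈ KaehlerDifferential.ideal S B := by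
    rw [← KaehlerDifferential.span_range_eq_ideal]
    exact Ideal.subset_span ⟨b, rfl⟩
  rw [hK, he0] at this
  simpa [sub_eq_zero] using this

variable {ι : Type u} [Fintype ι] {R : Type u} [CommRing R]

/-- The relations `X_i^p - ∑ M_ij X_j`. -/
def frobRel (p : ℕ) (M : Matrix ι ι R) (i : ι) : MvPolynomial ι R :=
  X i ^ p - ∑ j, C (M i j) * X j

/-- The algebra of solutions of `x^p = M x`. -/
abbrev FrobAlg (p : ℕ) (M : Matrix ι ι R) : Type u :=
  MvPolynomial ι R ⧸ Ideal.span (Set.range (frobRel p M))

theorem frobAlg_etale [DecidableEq ι] (p : ℕ) (hp : (p : R) = 0) (M : Matrix ι ι R)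
    (hM : IsUnit M.det) : Algebra.Etale R (FrobAlg p M) := by
  let P := Algebra.PreSubmersivePresentation.naive (R := R) (v := frobRel p M) (id : ι → ι)
    Function.injective_id
  have hj : P.jacobiMatrix = -(M.map (C : R →+* _)).transpose := by
    refine Matrix.ext fun i j => ?_
    rw [Algebra.PreSubmersivePresentation.jacobiMatrix_naive, frobRel, map_sub, map_sum,
      Derivation.leibniz_pow]
    have h0 : (p : MvPolynomial ι R) = 0 := by rw [← map_natCast (C : R →+* MvPolynomial ι R), hp, map_zero]
    rw [← Nat.cast_smul_eq_nsmul (MvPolynomial ι R) p, h0, zero_smul, zero_sub]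
    simp [pderiv_X, Pi.single_apply]
  have hu : IsUnit P.jacobian := by
    rw [Algebra.PreSubmersivePresentation.jacobian_eq_jacobiMatrix_det, hj, det_neg,
      det_transpose]
    refine IsUnit.map _ (IsUnit.mul ((isUnit_one.neg).pow _) ?_)
    rw [← RingHom.mapMatrix_apply, ← RingHom.map_det]
    exact hM.map _
  let Q : Algebra.SubmersivePresentation R (FrobAlg p M) ι ι := ⟨P, hu⟩
  haveI : Algebra.IsStandardSmoothOfRelativeDimension 0 R (FrobAlg p M) :=
    Q.isStandardSmoothOfRelativeDimension (by simp [Algebra.Presentation.dimension])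
  infer_instance

theorem frobAlg_finite (p : ℕ) (hp : 1 < p) (M : Matrix ι ι R) :
    Module.Finite R (FrobAlg p M) := by
  classical
  let q : MvPolynomial ι R →ₐ[R] FrobAlg p M :=
    Ideal.Quotient.mkₐ R (Ideal.span (Set.range (frobRel p M)))
  let T : Set (FrobAlg p M) :=
    Set.range fun t : ι → Fin p => q (monomial (Finsupp.equivFunOnFinite.symm fun i => (t i : ℕ)) 1)
  have hmon : ∀ n : ℕ, ∀ s : ι →₀ ℕ, s.degree = n → q (monomial s 1) ∈ Submodule.span R T := by
    intro n
    induction n using Nat.strong_induction_on with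
    | _ n ih =>
      intro s hs
      by_cases h : ∀ i, s i < p
      · refine Submodule.subset_span ⟨fun i => ⟨s i, h i⟩, ?_⟩
        simp only
        rw [show (Finsupp.equivFunOnFinite.symm fun i => s i) = s from Finsupp.ext fun i => by simp]
      · push_neg at h
        obtain ⟨i, hi⟩ := h
        obtain ⟨r, rfl⟩ : ∃ r, s = r + Finsupp.single i p :=
          ⟨s - Finsupp.single i p, (tsub_add_cancel_of_le (Finsupp.single_le_iff.2 hi)).symm⟩
        have hrel : q (X i ^ p) = q (∑ j, C (M i j) * X j) :=
          Ideal.Quotient.eq.2 (Ideal.subset_span ⟨i, rfl⟩)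
        have h1 : monomial (r + Finsupp.single i p) (1 : R) = monomial r 1 * X i ^ p := by
          rw [X_pow_eq_monomial, monomial_mul, one_mul]
        rw [h1, map_mul, hrel, ← map_mul, Finset.mul_sum, map_sum]
        refine Submodule.sum_mem _ fun j _ => ?_
        have h2 : monomial r (1 : R) * (C (M i j) * X j) =
            M i j • monomial (r + Finsupp.single j 1) 1 := by
          rw [X, C_mul_monomial, monomial_mul, smul_monomial]
          simp
        rw [h2, map_smul]
        refine Submodule.smul_mem _ _ (ih _ ?_ _ rfl)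
        rw [← hs, map_add, map_add, Finsupp.degree_single, Finsupp.degree_single]
        omega
  refine ⟨Submodule.fg_def.2 ⟨T, Set.finite_range _, eq_top_iff.2 fun x _ => ?_⟩⟩
  obtain ⟨f, rfl⟩ := Ideal.Quotient.mk_surjective x
  change q f ∈ _
  rw [f.as_sum, map_sum]
  refine Submodule.sum_mem _ fun s _ => ?_
  rw [show monomial s (coeff s f) = coeff s f • monomial s (1 : R) by simp [smul_monomial], map_smul]
  exact Submodule.smul_mem _ _ (hmon _ s rfl)

/-- Every finite formally unramified algebra over a quotient of an `F_p`-algebra `R` is a quotient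
of the base change of a finite étale `R`-algebra. -/
theorem exists_finite_etale_lift (p : ℕ) [Fact p.Prime] (R A B : Type u)
    [CommRing R] [CommRing A] [CommRing B] (hp : (p : R) = 0) [Algebra R A]
    (hRA : Function.Surjective (algebraMap R A)) [Algebra A B] [Module.Finite A B]
    [Algebra.FormallyUnramified A B] :
    ∃ (C : Type u) (_ : CommRing C) (_ : Algebra R C), Module.Finite R C ∧ Algebra.Etale R C ∧
      ∃ ψ : A ⊗[R] C →ₐ[A] B, Function.Surjective ψ := by
  classical
  letI : Algebra R B := ((algebraMap A B).comp (algebraMap R A)).toAlgebra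
  haveI : IsScalarTower R A B := IsScalarTower.of_algebraMap_eq' rfl
  have hpB : (p : B) = 0 := by rw [← map_natCast (algebraMap R B), hp, map_zero]
  obtain ⟨N, b, hb⟩ := Module.Finite.exists_fin (R := A) (M := B)
  have hbR : Submodule.span R (Set.range b) = ⊤ := by
    rw [← Submodule.restrictScalars_span R A hRA, hb, Submodule.restrictScalars_top]
  have hbp : Submodule.span R (Set.range fun i => b i ^ p) = ⊤ := by
    rw [← Submodule.restrictScalars_span R A hRA, ← Submodule.restrictScalars_top R A B,
      Submodule.restrictScalars_inj, ← top_le_iff, ← span_pow_eq_top p A B hpB, Submodule.span_le]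
    rintro _ ⟨x, rfl⟩
    show x ^ p ∈ Submodule.span A (Set.range fun i => b i ^ p)
    rcases subsingleton_or_nontrivial B with h | h
    · rw [show x ^ p = 0 from Subsingleton.elim _ _]
      exact zero_mem _
    haveI : CharP B p := (CharP.charP_iff_prime_eq_zero (Fact.out : p.Prime)).2 hpB
    obtain ⟨a, ha⟩ := (Submodule.mem_span_range_iff_exists_fun A).1 (hb ▸ Submodule.mem_top : x ∈ _)
    refine (Submodule.mem_span_range_iff_exists_fun A).2 ⟨fun i => a i ^ p, ?_⟩
    simp only [← ha, sum_pow_char, smul_pow]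
  choose Φ hΦ using fun i => (Submodule.mem_span_range_iff_exists_fun R).1
    (hbR ▸ Submodule.mem_top : b i ^ p ∈ Submodule.span R (Set.range b))
  choose Ψ hΨ using fun i => (Submodule.mem_span_range_iff_exists_fun R).1
    (hbp ▸ Submodule.mem_top : b i ∈ Submodule.span R (Set.range fun i => b i ^ p))
  let Φ' : Matrix (ULift.{u} (Fin N)) (ULift.{u} (Fin N)) R := .of fun i j => Φ i.down j.down
  let Ψ' : Matrix (ULift.{u} (Fin N)) (ULift.{u} (Fin N)) R := .of fun i j => Ψ i.down j.down
  let g : R →+* B := algebraMap R B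
  let β : ULift.{u} (Fin N) → B := fun i => b i.down
  let βp : ULift.{u} (Fin N) → B := fun i => b i.down ^ p
  have hPhi : Φ'.map g *ᵥ β = βp := by
    ext i
    simp only [Φ', β, βp, g, mulVec, dotProduct, map_apply, of_apply, ← Algebra.smul_def]
    rw [← hΦ i.down]
    exact Equiv.ulift.sum_comp (fun j => Φ i.down j • b j)
  have hPsi : Ψ'.map g *ᵥ βp = β := by
    ext i
    simp only [Ψ', β, βp, g, mulVec, dotProduct, map_apply, of_apply, ← Algebra.smul_def]
    refine Eq.trans ?_ (hΨ i.down)
    exact Equiv.ulift.sum_comp (fun j => Ψ i.down j • b j ^ p)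
  let M : Matrix (ULift.{u} (Fin N) ⊕ ULift.{u} (Fin N)) (ULift.{u} (Fin N) ⊕ ULift.{u} (Fin N)) R :=
    fromBlocks 1 Φ' 0 1 * fromBlocks 1 0 (-Ψ') 1 * fromBlocks 1 Φ' 0 1 * fromBlocks 0 (-1) 1 0
  have hdet : IsUnit M.det := by
    simp only [M, det_mul]
    refine IsUnit.mul (IsUnit.mul (IsUnit.mul ?_ ?_) ?_) ?_
    · simp [det_fromBlocks_zero₂₁]
    · simp [det_fromBlocks_zero₁₂]
    · simp [det_fromBlocks_zero₂₁]
    · exact isUnit_det_of_right_inverse (B := fromBlocks 0 1 (-1) 0)
        (by simp [fromBlocks_multiply, fromBlocks_one])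
  let v : ULift.{u} (Fin N) ⊕ ULift.{u} (Fin N) → B := Sum.elim β 0
  have hv : ∀ i, v i ^ p = ∑ j, g (M i j) * v j := by
    have h : M.map g *ᵥ v = Sum.elim βp 0 := by
      simp only [M, v]
      rw [← RingHom.mapMatrix_apply g, map_mul, map_mul, map_mul]
      simp only [RingHom.mapMatrix_apply, fromBlocks_map, Matrix.map_zero _ (map_zero g),
        Matrix.map_one _ (map_zero g) (map_one g), ← mulVec_mulVec]
      rw [show (-Ψ').map g = -(Ψ'.map g) from Matrix.ext fun i j => map_neg g _,
        show (-(1 : Matrix (ULift.{u} (Fin N)) (ULift.{u} (Fin N)) R)).map g = -1 by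
          rw [← RingHom.mapMatrix_apply, map_neg, map_one]]
      simp [fromBlocks_mulVec, neg_mulVec, hPhi, hPsi]
    intro i
    refine Eq.trans ?_ (congrFun h i).symm
    rcases i with i | i
    · rfl
    · simp [v, zero_pow (Fact.out : p.Prime).ne_zero]
  let φ : FrobAlg p M →ₐ[R] B := Ideal.Quotient.liftₐ _ (aeval v) (by
    intro a ha
    refine Submodule.span_induction ?_ (map_zero _) (fun x y _ _ hx hy => by rw [map_add, hx, hy, add_zero])
      (fun r x _ hx => by rw [smul_eq_mul, map_mul, hx, mul_zero]) ha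
    rintro _ ⟨i, rfl⟩
    simp only [frobRel, map_sub, map_sum, map_pow, map_mul, aeval_C, aeval_X]
    rw [hv i, sub_self])
  refine ⟨FrobAlg p M, inferInstance, inferInstance, frobAlg_finite p (Fact.out : p.Prime).one_lt M,
    frobAlg_etale p hp M hdet,
    Algebra.TensorProduct.lift (Algebra.ofId A B) φ (fun _ _ => Commute.all _ _), fun x => ?_⟩
  obtain ⟨a, rfl⟩ := (Submodule.mem_span_range_iff_exists_fun A).1 (hb ▸ Submodule.mem_top : x ∈ _)
  refine ⟨∑ i, a i ⊗ₜ[R] Ideal.Quotient.mk _ (X (.inl ⟨i⟩)), ?_⟩
  simp only [map_sum, Algebra.TensorProduct.lift_tmul]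
  refine Finset.sum_congr rfl fun i _ => ?_
  simp only [φ, Ideal.Quotient.liftₐ_apply, Ideal.Quotient.lift_mk, v, β, Algebra.ofId_apply,
    Algebra.smul_def]
  simp

end Groth.Agent.EtaleCharP
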